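import Mathlib.Topology.NoetherianSpace
import Mathlib.Topology.Sober

/-!
Closures of locally closed sets in noetherian sober spaces.
-/

namespace Groth.Agent.H34.UFDExt.Topo

open TopologicalSpace Topology

variable {α : Type*} [TopologicalSpace α] [NoetherianSpace α] [QuasiSober α]

/-- A point of the closure of a locally closed set is a specialisation of a point of the set. -/
theorem exists_specializes_of_mem_closure {O F : Set α} (hO : IsOpen O) (hF : IsClosed F) {x : α}
    (hx : x ∈ closure (O ∩ F)) : ∃ z ∈ O ∩ F, z ⤳ x := by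
  obtain ⟨S, hS, hcl, hirr, hFS⟩ :=
    NoetherianSpace.exists_finite_set_isClosed_irreducible (isClosed_closure (s := O ∩ F))
  let S' := {W ∈ S | (W ∩ O).Nonempty}
  have hsub : closure (O ∩ F) ⊆ ⋃₀ S' := by
    refine closure_minimal (fun a ha => ?_)
      (by rw [Set.sUnion_eq_biUnion]
          exact (hS.subset (Set.sep_subset _ _)).isClosed_biUnion fun W hW => hcl W hW.1)
    obtain ⟨W, hW, haW⟩ := Set.mem_sUnion.1 (hFS ▸ subset_closure ha)
    exact ⟨W, ⟨hW, ⟨a, haW, ha.1⟩⟩, haW⟩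
  obtain ⟨W, ⟨hW, a, haW, haO⟩, hxW⟩ := hsub hx
  obtain ⟨z, hz⟩ := QuasiSober.sober (hirr W hW) (hcl W hW)
  have hzO : z ∈ O := (hz.specializes haW).mem_open hO haO
  have hzF : z ∈ F := by
    refine closure_minimal (Set.inter_subset_right (s := O)) hF ?_
    rw [hFS]; exact ⟨W, hW, hz.mem⟩
  exact ⟨z, ⟨hzO, hzF⟩, hz.specializes hxW⟩

/-- Points without proper generalisation inside a closed set are finite in number. -/
theorem finite_of_isMax [T0Space α] {F S : Set α} (hF : IsClosed F) (hSF : S ⊆ F)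
    (h : ∀ η ∈ S, ∀ w ∈ F, w ⤳ η → w = η) : S.Finite := by
  obtain ⟨T, hT, hcl, hirr, hFT⟩ := NoetherianSpace.exists_finite_set_isClosed_irreducible hF
  choose g hg using fun W (hW : W ∈ T) => QuasiSober.sober (hirr W hW) (hcl W hW)
  refine (hT.biUnion (t := fun W => {η | η ∈ S ∧ η ∈ W}) fun W hW => ?_).subset fun η hη => ?_
  · refine Set.Subsingleton.finite fun a ha b hb => ?_
    have hgF : ∀ c ∈ S, c ∈ W → g W hW ⤳ c → g W hW = c := fun c hc hcW hs =>
      h c hc _ (by rw [hFT]; exact ⟨W, hW, (hg W hW).mem⟩) hs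
    exact (hgF a ha.1 ha.2 ((hg W hW).specializes ha.2)).symm.trans
      (hgF b hb.1 hb.2 ((hg W hW).specializes hb.2))
  · obtain ⟨W, hW, hηW⟩ := Set.mem_sUnion.1 (hFT ▸ hSF hη)
    exact Set.mem_biUnion hW ⟨hη, hηW⟩

end Groth.Agent.H34.UFDExt.Topo
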