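import Groth.Agent.Lib.ClSub.Cartier
import Groth.Agent.Lib.Modules.StalkModule

/-!
Generating sections of invertible modules.
-/

universe u

open CategoryTheory AlgebraicGeometry Opposite TopologicalSpace
open Groth.Agent.Lib.Modules.StalkModule

namespace Groth.Agent.H34.UFDExt.Gen

variable {X : Scheme.{u}} (M : X.Modules)

/-- The restriction of a section. -/
noncomputable abbrev res {W Q : X.Opens} (h : W ≤ Q) (t : Γ(M, Q)) : Γ(M, W) :=
  M.presheaf.map (homOfLE h).op t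

theorem res_res {A B C : X.Opens} (h : A ≤ B) (h' : B ≤ C) (t : Γ(M, C)) :
    res M h (res M h' t) = res M (h.trans h') t :=
  (congr($(M.presheaf.map_comp (homOfLE h').op (homOfLE h).op) t)).symm

/-- `t` freely generates `M` on `Q`. -/
def IsGen (Q : X.Opens) (t : Γ(M, Q)) : Prop :=
  ∀ (W : X.Opens) (h : W ≤ Q), Function.Bijective fun a : Γ(X, W) => a • res M h t

variable {M}

theorem IsGen.restrict {Q Q' : X.Opens} {t : Γ(M, Q)} (ht : IsGen M Q t) (h : Q' ≤ Q) :
    IsGen M Q' (res M h t) := by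
  intro W hW
  simpa only [res_res] using ht W (hW.trans h)

theorem map_smul_res {A B : X.Opens} (h : A ≤ B) (a : Γ(X, B)) (t : Γ(M, B)) :
    res M h (a • t) = X.presheaf.map (homOfLE h).op a • res M h t :=
  Scheme.Modules.map_smul M (homOfLE h) a t

theorem IsGen.stalk_bijective {Q : X.Opens} {t : Γ(M, Q)} (ht : IsGen M Q t) {y : X} (hy : y ∈ Q) :
    Function.Bijective fun a : X.presheaf.stalk y => a • M.presheaf.germ Q y hy t := by
  constructor
  · rw [show (fun a : X.presheaf.stalk y => a • M.presheaf.germ Q y hy t) =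
      ⇑(LinearMap.toSpanSingleton (X.presheaf.stalk y) (M.presheaf.stalk y)
        (M.presheaf.germ Q y hy t)) from rfl, injective_iff_map_eq_zero]
    intro a ha
    obtain ⟨U, hU, r, rfl⟩ := TopCat.Presheaf.exists_germ_eq X.presheaf a
    have hUQ : y ∈ U ⊓ Q := ⟨hU, hy⟩
    rw [LinearMap.toSpanSingleton_apply,
      ← TopCat.Presheaf.germ_res_apply X.presheaf (homOfLE (inf_le_left : U ⊓ Q ≤ U)) y hUQ r,
      ← TopCat.Presheaf.germ_res_apply M.presheaf (homOfLE (inf_le_right : U ⊓ Q ≤ Q)) y hUQ t,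
      ← germ_smul hUQ, ← map_zero (M.presheaf.germ (U ⊓ Q) y hUQ).hom] at ha
    obtain ⟨W, hW, i, j, hij⟩ := TopCat.Presheaf.germ_eq M.presheaf y hUQ hUQ _ _ ha
    rw [map_zero] at hij
    have hWQ : W ≤ Q := i.le.trans inf_le_right
    have hzero : X.presheaf.map i.op (X.presheaf.map (homOfLE (inf_le_left : U ⊓ Q ≤ U)).op r) •
        res M hWQ t = 0 := by
      rw [← res_res M i.le inf_le_right]
      exact (map_smul_res (M := M) i.le _ _).symm.trans hij
    have := (ht W hWQ).1 (hzero.trans (zero_smul Γ(X, W) (res M hWQ t)).symm)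
    rw [← TopCat.Presheaf.germ_res_apply X.presheaf (homOfLE (inf_le_left : U ⊓ Q ≤ U)) y hUQ r,
      ← TopCat.Presheaf.germ_res_apply X.presheaf i y hW, this, map_zero]
  · intro v
    obtain ⟨U, hU, m, rfl⟩ := TopCat.Presheaf.exists_germ_eq M.presheaf v
    have hUQ : y ∈ U ⊓ Q := ⟨hU, hy⟩
    obtain ⟨a, ha⟩ := (ht (U ⊓ Q) inf_le_right).2 (res M inf_le_left m)
    refine ⟨X.presheaf.germ (U ⊓ Q) y hUQ a, ?_⟩
    have := congrArg (M.presheaf.germ (U ⊓ Q) y hUQ) ha
    simp only [germ_smul, res, TopCat.Presheaf.germ_res_apply] at this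
    exact this

/-- A trivialisation gives generating sections. -/
theorem exists_isGen_of_iso (U : X.Opens) (e : M.restrict U.ι ≅ Coh.structureModule (↑U)) :
    ∃ t : Γ(M, U.ι ''ᵁ ⊤), IsGen M (U.ι ''ᵁ ⊤) t := by
  refine ⟨e.inv.app ⊤ (show Γ((↑U : Scheme.{u}), ⊤) from 1), fun W hW => ?_⟩
  have hWU : W ≤ U := hW.trans (U.ι_image_le ⊤)
  obtain ⟨W', rfl⟩ : ∃ W' : (↑U : Scheme.{u}).Opens, U.ι ''ᵁ W' = W :=
    ⟨U.ι ⁻¹ᵁ W, by rw [Scheme.Hom.image_preimage_eq_opensRange_inf, Scheme.Opens.opensRange_ι,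
      inf_eq_right]; exact hWU⟩
  have h : (fun a : Γ(X, U.ι ''ᵁ W') => a • res M hW (e.inv.app ⊤ (show Γ((↑U : Scheme.{u}), ⊤) from 1))) =
      fun a : Γ(X, U.ι ''ᵁ W') => e.inv.app W' a := by
    funext a
    have h1 : res M hW (e.inv.app ⊤ (show Γ((↑U : Scheme.{u}), ⊤) from 1)) =
        e.inv.app W' (show Γ((↑U : Scheme.{u}), W') from 1) := by
      refine (congr($(e.inv.mapPresheaf.naturality (homOfLE (le_top (a := W'))).op)
        (show Γ((↑U : Scheme.{u}), ⊤) from 1))).symm.trans (congrArg (e.inv.app W') ?_)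
      exact map_one ((↑U : Scheme.{u}).presheaf.map (homOfLE (le_top (a := W'))).op).hom
    rw [h1]
    have h2 : e.inv.app W' (show Γ((↑U : Scheme.{u}), W') from a) = _ :=
      (congrArg (e.inv.app W') (mul_one (show Γ((↑U : Scheme.{u}), W') from a)).symm).trans
        (Scheme.Modules.Hom.app_smul e.inv (show Γ((↑U : Scheme.{u}), W') from a)
          (show Γ((↑U : Scheme.{u}), W') from 1))
    refine Eq.trans ?_ h2.symm
    show _ = (SMul.smul ((U.ι.appIso W').inv a : Γ(X, U.ι ''ᵁ W')) _ : Γ(M, U.ι ''ᵁ W'))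
    rw [Scheme.Opens.ι_appIso]
    rfl
  rw [h]
  exact (ConcreteCategory.isIso_iff_bijective (e.inv.app W')).1 inferInstance

theorem exists_isGen_of_isInvertible (hM : PicF.IsInvertible M) (y : X) :
    ∃ (Q : X.Opens) (t : Γ(M, Q)), y ∈ Q ∧ IsGen M Q t := by
  obtain ⟨U, hy, ⟨e⟩⟩ := hM y
  obtain ⟨t, ht⟩ := exists_isGen_of_iso U e
  exact ⟨_, t, ⟨⟨y, hy⟩, trivial, rfl⟩, ht⟩

/-- A generating section trivialises. -/
theorem IsGen.nonempty_iso {Q : X.Opens} {t : Γ(M, Q)} (ht : IsGen M Q t) :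
    Nonempty (M.restrict Q.ι ≅ Coh.structureModule (↑Q)) := by
  let φ := Lib.ClSub.Cartier.ofSection (M.restrict Q.ι) (res M (Q.ι_image_le ⊤) t)
  suffices IsIso φ from ⟨(asIso φ).symm⟩
  rw [Scheme.Modules.Hom.isIso_iff_isIso_app]
  intro W
  rw [ConcreteCategory.isIso_iff_bijective]
  have hb := ht (Q.ι ''ᵁ W) (Q.ι_image_le W)
  constructor
  · intro a b hab
    exact hb.1 ((Lib.ClSub.Cartier.ofSection_restrict_app M Q t W a).symm.trans
      (hab.trans (Lib.ClSub.Cartier.ofSection_restrict_app M Q t W b)))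
  · intro m
    obtain ⟨a, ha⟩ := hb.2 m
    exact ⟨a, (Lib.ClSub.Cartier.ofSection_restrict_app M Q t W a).trans ha⟩

variable (M)

/-- The map of stalks along a specialisation. -/
noncomputable def sp {y z : X} (h : y ⤳ z) : M.presheaf.stalk z →+ M.presheaf.stalk y :=
  (M.presheaf.stalkSpecializes h).hom

theorem sp_germ {y z : X} (h : y ⤳ z) {W : X.Opens} (hz : z ∈ W) (m : Γ(M, W)) :
    sp M h (M.presheaf.germ W z hz m) = M.presheaf.germ W y (h.mem_open W.2 hz) m :=
  TopCat.Presheaf.germ_stalkSpecializes_apply M.presheaf hz h m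

theorem sp_smul {y z : X} (h : y ⤳ z) (a : X.presheaf.stalk z) (v : M.presheaf.stalk z) :
    sp M h (a • v) = X.presheaf.stalkSpecializes h a • sp M h v := by
  obtain ⟨W, hz, r, m, rfl, rfl⟩ := exists_germ_eq₂ a v
  rw [← germ_smul, sp_germ, sp_germ, germ_smul,
    TopCat.Presheaf.germ_stalkSpecializes_apply X.presheaf hz h r]

end Groth.Agent.H34.UFDExt.Gen
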