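import Mathlib.RingTheory.UniqueFactorizationDomain.Ideal
import Mathlib.RingTheory.UniqueFactorizationDomain.Multiplicity
import Mathlib.RingTheory.Localization.NumDen
import Mathlib.RingTheory.Ideal.Operations
import Mathlib.Tactic.LinearCombination
import Mathlib.Tactic.FieldSimp
import Mathlib.Tactic.Ring

/-!
Divisor data on a unique factorisation domain: fractions with prescribed behaviour at all
height one primes.
-/

set_option linter.unusedSectionVars false

namespace Groth.Agent.H34.UFDExt.Algebra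

variable (B : Type*) {K : Type*} [CommRing B] [IsDomain B] [Field K] [Algebra B K] [IsFractionRing B K]

/-- `x` and `y` differ by a factor `b / a` with `a, b ∉ p`. -/
def Equiv' (p : Ideal B) (x y : K) : Prop :=
  ∃ a b : B, a ∉ p ∧ b ∉ p ∧ x * algebraMap B K a = y * algebraMap B K b

/-- `x` is a fraction with denominator outside `p`. -/
def InLoc (p : Ideal B) (x : K) : Prop :=
  ∃ a s : B, s ∉ p ∧ x * algebraMap B K s = algebraMap B K a

variable {B}

theorem ne_zero_of_not_mem {p : Ideal B} {a : B} (ha : a ∉ p) : algebraMap B K a ≠ 0 :=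
  fun h => ha (by rw [IsFractionRing.to_map_eq_zero_iff.1 h]; exact p.zero_mem)

theorem equiv'_refl {p : Ideal B} [p.IsPrime] (x : K) : Equiv' B p x x :=
  ⟨1, 1, p.ne_top_iff_one.1 (Ideal.IsPrime.ne_top ‹_›), p.ne_top_iff_one.1 (Ideal.IsPrime.ne_top ‹_›),
    rfl⟩

theorem equiv'_symm {p : Ideal B} {x y : K} (h : Equiv' B p x y) : Equiv' B p y x := by
  obtain ⟨a, b, ha, hb, h⟩ := h
  exact ⟨b, a, hb, ha, h.symm⟩

theorem equiv'_trans {p : Ideal B} [hp : p.IsPrime] {x y z : K} (h : Equiv' B p x y)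
    (h' : Equiv' B p y z) : Equiv' B p x z := by
  obtain ⟨a, b, ha, hb, h⟩ := h
  obtain ⟨c, d, hc, hd, h'⟩ := h'
  refine ⟨a * c, b * d, fun hm => (hp.mem_or_mem hm).elim ha hc,
    fun hm => (hp.mem_or_mem hm).elim hb hd, ?_⟩
  rw [map_mul, map_mul]
  linear_combination (algebraMap B K c) * h + (algebraMap B K b) * h'

theorem equiv'_mul {p : Ideal B} [hp : p.IsPrime] {x y z w : K} (h : Equiv' B p x y)
    (h' : Equiv' B p z w) : Equiv' B p (x * z) (y * w) := by
  obtain ⟨a, b, ha, hb, h⟩ := h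
  obtain ⟨c, d, hc, hd, h'⟩ := h'
  refine ⟨a * c, b * d, fun hm => (hp.mem_or_mem hm).elim ha hc,
    fun hm => (hp.mem_or_mem hm).elim hb hd, ?_⟩
  rw [map_mul, map_mul]
  linear_combination (z * algebraMap B K c) * h + (y * algebraMap B K b) * h'

theorem equiv'_iff_inLoc {p : Ideal B} [hp : p.IsPrime] {x y : K} (hy : y ≠ 0) (hx : x ≠ 0) :
    Equiv' B p x y ↔ InLoc B p (x / y) ∧ InLoc B p (y / x) := by
  constructor
  · rintro ⟨a, b, ha, hb, h⟩
    exact ⟨⟨b, a, ha, by field_simp; linear_combination h⟩,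
      ⟨a, b, hb, by field_simp; linear_combination -h⟩⟩
  · rintro ⟨⟨a, s, hs, h⟩, ⟨c, t, ht, h'⟩⟩
    have key : algebraMap B K s * algebraMap B K t = algebraMap B K (a * c) := by
      rw [map_mul, ← h, ← h']
      field_simp
    rw [← map_mul] at key
    have hst := IsFractionRing.injective B K key
    refine ⟨s, a, hs, fun ha => ?_, ?_⟩
    · have : s * t ∈ p := hst ▸ p.mul_mem_right c ha
      exact (hp.mem_or_mem this).elim hs ht
    · rw [← h]; field_simp

variable [UniqueFactorizationMonoid B]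

/-- A fraction lying in the localisation at every principal prime inside `p` lies in the
localisation at `p`. -/
theorem inLoc_of_forall (p : Ideal B) [p.IsPrime] (c : K)
    (h : ∀ π : B, Prime π → π ∈ p → InLoc B (Ideal.span {π}) c) : InLoc B p c := by
  let a' := IsFractionRing.num B c
  let b' : B := (IsFractionRing.den B c : B)
  have hc : c * algebraMap B K b' = algebraMap B K a' :=
    IsLocalization.eq_mk'_iff_mul_eq.1 (IsFractionRing.mk'_num_den B c).symm
  refine ⟨a', b', fun hb => ?_, hc⟩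
  have hb0 : b' ≠ 0 := nonZeroDivisors.coe_ne_zero (IsFractionRing.den B c)
  have hbu : ¬ IsUnit b' := fun hu => Ideal.IsPrime.ne_top ‹_› (Ideal.eq_top_of_isUnit_mem _ hb hu)
  obtain ⟨π, hπp, hπb⟩ : ∃ π, π ∈ p ∧ π ∈ UniqueFactorizationMonoid.factors b' := by
    by_contra hne
    push Not at hne
    obtain ⟨u, hu⟩ := UniqueFactorizationMonoid.factors_prod hb0
    have : (UniqueFactorizationMonoid.factors b').prod * u ∈ p := hu.symm ▸ hb
    rcases Ideal.IsPrime.mem_or_mem ‹_› this with h1 | h1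
    · obtain ⟨π, hπ, hπp⟩ := (Ideal.IsPrime.multiset_prod_mem_iff_exists_mem ‹p.IsPrime› _).1 h1
      exact hne π hπp hπ
    · exact Ideal.IsPrime.ne_top ‹_› (Ideal.eq_top_of_isUnit_mem _ h1 u.isUnit)
  have hπ := UniqueFactorizationMonoid.prime_of_factor π hπb
  have hdvd : π ∣ b' := UniqueFactorizationMonoid.dvd_of_mem_factors hπb
  obtain ⟨a, s, hs, hcs⟩ := h π hπ hπp
  rw [Ideal.mem_span_singleton] at hs
  have hcross : a' * s = a * b' := IsFractionRing.injective B K (by
    rw [map_mul, map_mul, ← hc, ← hcs]; ring)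
  have hπa : π ∣ a' := (hπ.dvd_or_dvd (hcross ▸ hdvd.mul_left a)).resolve_right hs
  exact hπ.not_isUnit (IsFractionRing.num_den_reduced B c hπa hdvd)

/-- A nonzero fraction is a power of `π` up to a factor prime to `π`. -/
theorem exists_zpow {π : B} (hπ : Prime π) {c : K} (hc : c ≠ 0) :
    ∃ n : ℤ, Equiv' B (Ideal.span {π}) c (algebraMap B K π ^ n) := by
  obtain ⟨a, b, hb, rfl⟩ := IsFractionRing.div_surjective B c
  have ha : a ≠ 0 := by rintro rfl; simp at hc
  have hb0 : b ≠ 0 := nonZeroDivisors.ne_zero hb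
  obtain ⟨i, a', ha', rfl⟩ := WfDvdMonoid.max_power_factor ha hπ.irreducible
  obtain ⟨j, b', hb', rfl⟩ := WfDvdMonoid.max_power_factor hb0 hπ.irreducible
  refine ⟨(i : ℤ) - j, b', a', by rwa [Ideal.mem_span_singleton], by rwa [Ideal.mem_span_singleton],
    ?_⟩
  have hπ0 : algebraMap B K π ≠ 0 := fun h => hπ.ne_zero (IsFractionRing.to_map_eq_zero_iff.1 h)
  have hb'0 : algebraMap B K b' ≠ 0 := fun h => by
    rw [IsFractionRing.to_map_eq_zero_iff.1 h] at hb'; exact hb' (dvd_zero _)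
  rw [map_mul, map_mul, map_pow, map_pow, zpow_sub₀ hπ0, zpow_natCast, zpow_natCast]
  field_simp

/-- Prescribed divisor data with finite support are realised by a fraction. -/
theorem exists_realisation (g : Ideal B → K) (hg : ∀ p, g p ≠ 0) (g₀ : K) (hg₀ : g₀ ≠ 0)
    (a₀ : B) (ha₀ : a₀ ≠ 0)
    (h : ∀ π : B, Prime π → ¬ π ∣ a₀ → Equiv' B (Ideal.span {π}) g₀ (g (Ideal.span {π}))) :
    ∃ c : K, c ≠ 0 ∧ ∀ π : B, Prime π → Equiv' B (Ideal.span {π}) c (g (Ideal.span {π})) := by
  suffices H : ∀ l : List B, (∀ π ∈ l, Prime π) → ∀ c₀ : K, c₀ ≠ 0 →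
      (∀ π : B, Prime π → (∀ ρ ∈ l, ¬ Associated π ρ) →
        Equiv' B (Ideal.span {π}) c₀ (g (Ideal.span {π}))) →
      ∃ c : K, c ≠ 0 ∧ ∀ π : B, Prime π → Equiv' B (Ideal.span {π}) c (g (Ideal.span {π})) by
    refine H (UniqueFactorizationMonoid.factors a₀).toList (fun π hπ =>
      UniqueFactorizationMonoid.prime_of_factor π (Multiset.mem_toList.1 hπ)) g₀ hg₀
      fun π hπ hl => h π hπ fun hd => ?_
    obtain ⟨ρ, hρ, hassoc⟩ :=
      UniqueFactorizationMonoid.exists_mem_factors_of_dvd ha₀ hπ.irreducible hd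
    exact hl ρ (Multiset.mem_toList.2 hρ) hassoc
  intro l
  induction l with
  | nil => exact fun _ c₀ hc₀ h => ⟨c₀, hc₀, fun π hπ => h π hπ (by simp)⟩
  | cons ρ l ih =>
    intro hl c₀ hc₀ hc
    have hρ : Prime ρ := hl ρ (List.mem_cons_self ..)
    have hρ0 : algebraMap B K ρ ≠ 0 := fun h => hρ.ne_zero (IsFractionRing.to_map_eq_zero_iff.1 h)
    have : (Ideal.span {ρ}).IsPrime := (Ideal.span_singleton_prime hρ.ne_zero).2 hρ
    obtain ⟨n, hn⟩ := exists_zpow hρ (div_ne_zero (hg (Ideal.span {ρ})) hc₀)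
    refine ih (fun π hπ => hl π (List.mem_cons_of_mem _ hπ)) (c₀ * algebraMap B K ρ ^ n)
      (mul_ne_zero hc₀ (zpow_ne_zero _ hρ0)) fun π hπ hπl => ?_
    have : (Ideal.span {π}).IsPrime := (Ideal.span_singleton_prime hπ.ne_zero).2 hπ
    by_cases hassoc : Associated π ρ
    · rw [Ideal.span_singleton_eq_span_singleton.2 hassoc]
      have := equiv'_mul (equiv'_refl (p := Ideal.span {ρ}) c₀) (equiv'_symm hn)
      rwa [mul_div_cancel₀ _ hc₀] at this
    · have h1 : Equiv' B (Ideal.span {π}) (algebraMap B K ρ ^ n) 1 := by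
        have hρπ : ρ ∉ Ideal.span {π} := fun hm => hassoc
          (hπ.associated_of_dvd hρ (Ideal.mem_span_singleton.1 hm))
        have hp : ∀ m : ℕ, ρ ^ m ∉ Ideal.span {π} := fun m hm =>
          hρπ (Ideal.IsPrime.mem_of_pow_mem ‹_› m hm)
        obtain ⟨m, rfl | rfl⟩ := n.eq_nat_or_neg
        · exact ⟨1, ρ ^ m, by simpa using hp 0, hp m, by simp⟩
        · exact ⟨ρ ^ m, 1, hp m, by simpa using hp 0,
            by simp [map_pow, inv_mul_cancel₀ (pow_ne_zero m hρ0)]⟩
      have h2 := equiv'_mul (hc π hπ (by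
        intro σ hσ
        rcases List.mem_cons.1 hσ with rfl | hσ
        · exact hassoc
        · exact hπl σ hσ)) h1
      rwa [mul_one] at h2

end Groth.Agent.H34.UFDExt.Algebra
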