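import Groth.Agent.H34.UFDExt.Gen
import Mathlib.Algebra.Category.ModuleCat.Presheaf.Submodule
import Mathlib.Topology.Sheaves.SheafCondition.UniqueGluing

/-!
The lattice submodule attached to a module generically free of rank one.
-/

universe u

open CategoryTheory AlgebraicGeometry Opposite TopologicalSpace
open Groth.Agent.Lib.Modules.StalkModule

namespace Groth.Agent.H34.UFDExt.Sub

variable {X : Scheme.{u}} (M : X.Modules) (U₁ : X.Opens)

/-- A point without proper generalisations. -/
def IsMaxPt (z : X) : Prop := ∀ v : X, v ⤳ z → v = z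

/-- Points outside `U₁` all of whose proper generalisations are maximal. -/
def IsDiv (η : X) : Prop := η ∉ U₁ ∧ ∀ w : X, w ⤳ η → w ≠ η → IsMaxPt w

open Classical in
/-- A chosen basis of the stalk (when there is one). -/
noncomputable def basis (z : X) : M.presheaf.stalk z :=
  if h : ∃ v : M.presheaf.stalk z, Function.Bijective fun a : X.presheaf.stalk z => a • v
  then h.choose else 0

theorem basis_bijective {z : X}
    (h : ∃ v : M.presheaf.stalk z, Function.Bijective fun a : X.presheaf.stalk z => a • v) :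
    Function.Bijective fun a : X.presheaf.stalk z => a • basis M z := by
  rw [basis, dif_pos h]; exact h.choose_spec

/-- The lattice condition on a section. -/
def Cond {W : X.Opens} (s : Γ(M, W)) : Prop :=
  ∀ (η : X) (hη : η ∈ W), IsDiv U₁ η → ∀ (z : X) (h : z ⤳ η), IsMaxPt z →
    ∃ a : X.presheaf.stalk η,
      X.presheaf.stalkSpecializes h a • basis M z = M.presheaf.germ W z (h.mem_open W.2 hη) s

/-- The submodule of sections satisfying the lattice condition. -/
noncomputable def sub : PresheafOfModules.Submodule M.val where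
  obj W :=
    { carrier := {s | Cond M U₁ (W := W.unop) s}
      zero_mem' := fun η hη _ z h _ => ⟨0, by
        rw [map_zero, zero_smul]
        exact (map_zero (M.presheaf.germ W.unop z (h.mem_open W.unop.2 hη)).hom).symm⟩
      add_mem' := fun {s t} hs ht η hη hd z h hz => by
        obtain ⟨a, ha⟩ := hs η hη hd z h hz
        obtain ⟨b, hb⟩ := ht η hη hd z h hz
        refine ⟨a + b, ?_⟩
        rw [map_add, add_smul, ha, hb]
        exact (map_add (M.presheaf.germ W.unop z (h.mem_open W.unop.2 hη)).hom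
          (show Γ(M, W.unop) from s) (show Γ(M, W.unop) from t)).symm
      smul_mem' := fun r s hs η hη hd z h hz => by
        obtain ⟨a, ha⟩ := hs η hη hd z h hz
        refine ⟨X.presheaf.germ W.unop η hη (show Γ(X, W.unop) from r) * a, ?_⟩
        rw [map_mul, mul_smul, ha, TopCat.Presheaf.germ_stalkSpecializes_apply]
        exact (germ_smul (h.mem_open W.unop.2 hη) (show Γ(X, W.unop) from r)
          (show Γ(M, W.unop) from s)).symm }
  map {W W'} i := fun s hs η hη hd z h hz => by
    obtain ⟨a, ha⟩ := hs η (i.unop.le hη) hd z h hz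
    exact ⟨a, ha.trans
      (TopCat.Presheaf.germ_res_apply M.presheaf i.unop z (h.mem_open W'.unop.2 hη) s).symm⟩

/-- The lattice module. -/
noncomputable def lattice : X.Modules where
  val := (sub M U₁).toPresheafOfModules
  isSheaf := by
    refine (TopCat.Presheaf.isSheaf_iff_isSheafUniqueGluing
      (X := X.carrier) (F := (sub M U₁).toPresheafOfModules.presheaf)).2 fun ι U sf hsf => ?_
    let F : TopCat.Sheaf AddCommGrpCat.{u} X := ⟨M.presheaf, M.isSheaf⟩
    obtain ⟨s, hs, huniq⟩ := F.existsUnique_gluing U (fun i => ((sf i).1 : Γ(M, U i)))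
      fun i j => congrArg Subtype.val (hsf i j)
    have hmem : Cond M U₁ (W := iSup U) s := by
      intro η hη hd z h hz
      obtain ⟨i, hi⟩ := Opens.mem_iSup.1 hη
      obtain ⟨a, ha⟩ := (sf i).2 η hi hd z h hz
      refine ⟨a, ha.trans ?_⟩
      rw [← TopCat.Presheaf.germ_res_apply M.presheaf (Opens.leSupr U i) z (h.mem_open (U i).2 hi) s]
      exact congrArg (M.presheaf.germ (U i) z (h.mem_open (U i).2 hi)) (hs i).symm
    refine ⟨⟨s, hmem⟩, fun i => Subtype.ext (hs i), fun t ht => Subtype.ext (huniq t.1 fun i => ?_)⟩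
    exact congrArg Subtype.val (ht i)

/-- The inclusion of the lattice module. -/
noncomputable def ι : lattice M U₁ ⟶ M := ⟨(sub M U₁).ι⟩

theorem ι_app_injective (W : X.Opens) : Function.Injective ((ι M U₁).app W) :=
  fun _ _ h => Subtype.ext h

theorem mem_range_ι_app_iff (W : X.Opens) (s : Γ(M, W)) :
    (∃ t, (ι M U₁).app W t = s) ↔ Cond M U₁ s :=
  ⟨fun ⟨t, ht⟩ => ht ▸ t.2, fun h => ⟨⟨s, h⟩, rfl⟩⟩

theorem cond_of_le {W : X.Opens} (hW : W ≤ U₁) (s : Γ(M, W)) : Cond M U₁ s :=
  fun _ hη hd => absurd (hW hη) hd.1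

theorem ι_app_bijective {W : X.Opens} (hW : W ≤ U₁) : Function.Bijective ((ι M U₁).app W) :=
  ⟨ι_app_injective M U₁ W, fun s => (mem_range_ι_app_iff M U₁ W s).2 (cond_of_le M U₁ hW s)⟩

/-- A generator of `M` below `U₁` gives a generator of the lattice module. -/
theorem isGen_lattice_of_le {Q : X.Opens} (hQ : Q ≤ U₁) {t : Γ(M, Q)} (ht : Gen.IsGen M Q t) :
    ∃ t' : Γ(lattice M U₁, Q), Gen.IsGen (lattice M U₁) Q t' := by
  obtain ⟨t', rfl⟩ := (ι_app_bijective M U₁ hQ).2 t
  refine ⟨t', fun W hW => ?_⟩
  have h : ∀ a : Γ(X, W), (ι M U₁).app W (a • Gen.res (lattice M U₁) hW t') =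
      a • Gen.res M hW ((ι M U₁).app Q t') := fun a => by
    rw [Scheme.Modules.Hom.app_smul]; rfl
  constructor
  · intro a b hab
    exact (ht W hW).1 ((h a).symm.trans ((congrArg _ hab).trans (h b)))
  · intro m
    obtain ⟨a, ha⟩ := (ht W hW).2 ((ι M U₁).app W m)
    exact ⟨a, ι_app_injective M U₁ W ((h a).trans ha)⟩

end Groth.Agent.H34.UFDExt.Sub
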