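import Groth.Agent.H34.UFDExt.Points
import Groth.Agent.H34.UFDExt.Sub

/-!
Coordinates at the generic point of an affine open with a domain of sections.
-/

universe u

open CategoryTheory AlgebraicGeometry Opposite TopologicalSpace
open Groth.Agent.Lib.Modules.StalkModule

namespace Groth.Agent.H34.UFDExt.Coord

open Points Gen

variable {X : Scheme.{u}} {M : X.Modules} {U₁ : X.Opens}
  {V : X.Opens} (hV : IsAffineOpen V) [IsDomain Γ(X, V)]
  (hb : Function.Bijective fun a : X.presheaf.stalk (genPt hV) => a • Sub.basis M (genPt hV))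

/-- The coordinate of a germ at the generic point. -/
noncomputable def coef (v : M.presheaf.stalk (genPt hV)) : X.presheaf.stalk (genPt hV) :=
  (Equiv.ofBijective _ hb).symm v

theorem coef_spec (v : M.presheaf.stalk (genPt hV)) : coef hV hb v • Sub.basis M (genPt hV) = v :=
  (Equiv.ofBijective _ hb).apply_symm_apply v

theorem coef_eq {v : M.presheaf.stalk (genPt hV)} {a : X.presheaf.stalk (genPt hV)}
    (h : a • Sub.basis M (genPt hV) = v) : coef hV hb v = a :=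
  hb.1 ((coef_spec hV hb v).trans h.symm)

theorem coef_smul (a : X.presheaf.stalk (genPt hV)) (v : M.presheaf.stalk (genPt hV)) :
    coef hV hb (a • v) = a * coef hV hb v :=
  coef_eq hV hb (by rw [mul_smul, coef_spec])

theorem coef_zero : coef hV hb 0 = 0 := coef_eq hV hb (zero_smul _ _)

/-- The coordinate of a section defined near a point of `V`. -/
noncomputable def coord {W : X.Opens} {y : X} (hy : y ∈ V) (hW : y ∈ W) (s : Γ(M, W)) :
    X.presheaf.stalk (genPt hV) :=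
  coef hV hb (M.presheaf.germ W (genPt hV) ((genPt_specializes hV hy).mem_open W.2 hW) s)

theorem coord_congr {W W' : X.Opens} (h : W' ≤ W) {y y' : X} (hy : y ∈ V) (hy' : y' ∈ V)
    (hW : y ∈ W) (hW' : y' ∈ W') (s : Γ(M, W)) :
    coord hV hb hy' hW' (res M h s) = coord hV hb hy hW s := by
  unfold coord
  rw [TopCat.Presheaf.germ_res_apply]

theorem coord_eq_coord {W : X.Opens} {y y' : X} (hy : y ∈ V) (hy' : y' ∈ V)
    (hW : y ∈ W) (hW' : y' ∈ W) (s : Γ(M, W)) :
    coord hV hb hy hW s = coord hV hb hy' hW' s := rfl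

theorem coord_smul {W : X.Opens} {y : X} (hy : y ∈ V) (hW : y ∈ W) (r : Γ(X, W)) (s : Γ(M, W)) :
    coord hV hb hy hW (r • s) =
      toGen hV hy (X.presheaf.germ W y hW r) * coord hV hb hy hW s := by
  unfold coord
  rw [germ_smul, coef_smul, toGen_germ]

/-- The coordinate of any section is a multiple of the coordinate of a generator. -/
theorem coord_mem {Q : X.Opens} {t : Γ(M, Q)} (ht : IsGen M Q t) {W : X.Opens} {y : X}
    (hy : y ∈ V) (hyQ : y ∈ Q) (hW : y ∈ W) (s : Γ(M, W)) :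
    ∃ a : X.presheaf.stalk y, M.presheaf.germ W y hW s = a • M.presheaf.germ Q y hyQ t ∧
      coord hV hb hy hW s = toGen hV hy a * coord hV hb hy hyQ t := by
  obtain ⟨a, ha⟩ := (ht.stalk_bijective hyQ).2 (M.presheaf.germ W y hW s)
  refine ⟨a, ha.symm, ?_⟩
  have := congrArg (sp M (genPt_specializes hV hy)) ha
  rw [sp_smul, sp_germ, sp_germ] at this
  unfold coord
  rw [← this, coef_smul]
  rfl

theorem coord_ne_zero {Q : X.Opens} {t : Γ(M, Q)} (ht : IsGen M Q t) {y : X}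
    (hy : y ∈ V) (hyQ : y ∈ Q) : coord hV hb hy hyQ t ≠ 0 := by
  intro h0
  unfold coord at h0
  have hξ := (genPt_specializes hV hy).mem_open Q.2 hyQ
  have h1 := coef_spec hV hb (M.presheaf.germ Q (genPt hV) hξ t)
  rw [h0, zero_smul] at h1
  have := (ht.stalk_bijective hξ).1 (a₁ := 1) (a₂ := 0)
    (show (1 : X.presheaf.stalk (genPt hV)) • _ = (0 : X.presheaf.stalk (genPt hV)) • _ by
      rw [← h1, smul_zero, smul_zero])
  exact (isField_genPt hV).exists_pair_ne.elim fun a ha => ha.elim fun b hb' => hb' (by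
    rw [← mul_one a, ← mul_one b, this, mul_zero, mul_zero])

variable (hres : ∀ W : X.Opens, Function.Bijective (res M (inf_le_left : W ⊓ U₁ ≤ W)))
  (hgen : ∀ y ∈ U₁, ∃ (Q : X.Opens) (t : Γ(M, Q)), y ∈ Q ∧ IsGen M Q t)

include hres hgen in
/-- Sections over opens inside `V` are determined by their coordinates. -/
theorem eq_of_coord_eq {W : X.Opens} (hW : W ≤ V) (s s' : Γ(M, W))
    (h : ∀ (y : X) (hy : y ∈ W), coord hV hb (hW hy) hy s = coord hV hb (hW hy) hy s') :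
    s = s' := by
  apply (hres W).1
  refine TopCat.Presheaf.section_ext (⟨M.presheaf, M.isSheaf⟩ : TopCat.Sheaf AddCommGrpCat.{u} X)
    _ _ _ fun y hy => ?_
  obtain ⟨Q, t, hyQ, ht⟩ := hgen y hy.2
  obtain ⟨a, hga, ha⟩ := coord_mem hV hb ht (hW hy.1) hyQ hy.1 s
  obtain ⟨b, hgb, hb'⟩ := coord_mem hV hb ht (hW hy.1) hyQ hy.1 s'
  have hab : a = b := by
    apply toGen_injective hV (hW hy.1)
    have heq := h y hy.1
    rw [ha, hb'] at heq
    let := (isField_genPt hV).toField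
    exact mul_right_cancel₀ (coord_ne_zero hV hb ht (hW hy.1) hyQ) heq
  refine (TopCat.Presheaf.germ_res_apply M.presheaf (homOfLE inf_le_left) y hy s).trans ?_
  refine Eq.trans ?_ (TopCat.Presheaf.germ_res_apply M.presheaf (homOfLE inf_le_left) y hy s').symm
  rw [hga, hgb, hab]

include hres hgen in
/-- Sections with prescribed coordinate. -/
theorem exists_coord_eq (hξU : genPt hV ∈ U₁) {W : X.Opens} (hW : W ≤ V) (c : X.presheaf.stalk (genPt hV))
    (hc : ∀ (y : X) (hy : y ∈ W), y ∈ U₁ → ∀ (Q : X.Opens) (t : Γ(M, Q)) (hyQ : y ∈ Q),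
      IsGen M Q t → ∃ a, c = toGen hV (hW hy) a * coord hV hb (hW hy) hyQ t) :
    ∃ s : Γ(M, W), ∀ (y : X) (hy : y ∈ W), coord hV hb (hW hy) hy s = c := by
  choose Q t hQ ht using fun y : ↥(W ⊓ U₁) => hgen y.1 y.2.2
  choose a ha using fun y : ↥(W ⊓ U₁) => hc y.1 y.2.1 y.2.2 (Q y) (t y) (hQ y) (ht y)
  have hloc : ∀ y : ↥(W ⊓ U₁), ∃ (R : X.Opens) (m : Γ(M, R)), y.1 ∈ R ∧ R ≤ W ⊓ U₁ ∧
      ∀ (z : X) (hz : z ∈ R) (hzV : z ∈ V), coord hV hb hzV hz m = c := by
    intro y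
    obtain ⟨O, hO, r, hr⟩ := TopCat.Presheaf.exists_germ_eq X.presheaf (a y)
    let R := O ⊓ Q y ⊓ (W ⊓ U₁)
    refine ⟨R, X.presheaf.map (homOfLE (inf_le_left.trans inf_le_left : R ≤ O)).op r •
      res M (inf_le_left.trans inf_le_right : R ≤ Q y) (t y), ⟨⟨hO, hQ y⟩, y.2⟩, inf_le_right,
      fun z hz hzV => ?_⟩
    have hyR : y.1 ∈ R := ⟨⟨hO, hQ y⟩, y.2⟩
    refine (coord_eq_coord hV hb hzV (hW y.2.1) hz hyR _).trans ((coord_smul hV hb _ hyR _ _).trans
      (Eq.trans ?_ (ha y).symm))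
    exact congrArg₂ (· * ·)
      (congrArg _ ((TopCat.Presheaf.germ_res_apply X.presheaf _ _ hyR r).trans hr))
      (coord_congr hV hb _ (hW y.2.1) (hW y.2.1) (hQ y) hyR (t y))
  choose R m hyR hRW hm using hloc
  let F : TopCat.Sheaf AddCommGrpCat.{u} X := ⟨M.presheaf, M.isSheaf⟩
  obtain ⟨s₁, hs₁, -⟩ := F.existsUnique_gluing' R (W ⊓ U₁) (fun y => homOfLE (hRW y))
    (fun y hy => Opens.mem_iSup.2 ⟨⟨y, hy⟩, hyR ⟨y, hy⟩⟩) m fun i j =>
      eq_of_coord_eq hV hb hres hgen ((inf_le_left.trans (hRW i)).trans (inf_le_left.trans hW)) _ _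
        fun z hz => by
          have hzV : z ∈ V := hW (hRW i hz.1).1
          exact ((coord_congr hV hb (inf_le_left : R i ⊓ R j ≤ R i) hzV _ hz.1 hz (m i)).trans
            (hm i z hz.1 hzV)).trans ((coord_congr hV hb (inf_le_right : R i ⊓ R j ≤ R j) hzV _ hz.2 hz
            (m j)).trans (hm j z hz.2 hzV)).symm
  obtain ⟨s, hs⟩ := (hres W).2 s₁
  refine ⟨s, fun y hy => ?_⟩
  have hz : genPt hV ∈ W ⊓ U₁ := ⟨genPt_mem_of_nonempty hV hW hy, hξU⟩
  have h1 : coord hV hb (hW hz.1) hz s₁ = c := by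
    rw [← coord_congr hV hb (hRW ⟨_, hz⟩) (hW hz.1) (hW hz.1) hz (hyR ⟨_, hz⟩) s₁]
    exact (congrArg _ (hs₁ ⟨_, hz⟩)).trans (hm ⟨_, hz⟩ _ (hyR ⟨_, hz⟩) (hW hz.1))
  rw [← h1, ← hs, coord_congr hV hb inf_le_left (hW hy) (hW hz.1) hy hz s]

end Groth.Agent.H34.UFDExt.Coord
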