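import Groth.Agent.H34.UFDExt.Coord
import Groth.Agent.H34.UFDExt.Topo
import Mathlib.AlgebraicGeometry.SpreadingOut
import Mathlib.AlgebraicGeometry.Noetherian

/-!
The lattice module is invertible at points with factorial local rings.
-/

universe u

open CategoryTheory AlgebraicGeometry Opposite TopologicalSpace

namespace Groth.Agent.H34.UFDExt.Main

open Points Gen Sub Coord Algebra IsLocalRing

variable {X : Scheme.{u}} {M : X.Modules} {U₁ : X.Opens}

theorem isDomain_of_ufm (y : X) (h : UniqueFactorizationMonoid (X.presheaf.stalk y)) :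
    IsDomain (X.presheaf.stalk y) :=
  have : IsCancelMulZero (X.presheaf.stalk y) := h.toIsCancelMulZero
  { }

variable {V : X.Opens} (hV : IsAffineOpen V) [IsDomain Γ(X, V)]

theorem isMaxPt_genPt : IsMaxPt (genPt hV) := fun _ h => eq_genPt hV h

theorem eq_genPt_of_isMaxPt {z : X} (hz : z ∈ V) (h : IsMaxPt z) : z = genPt hV :=
  (h _ (genPt_specializes hV hz)).symm

include hV in
/-- A prime principal ideal comes from a point all of whose proper generalisations are generic. -/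
theorem isMaxPt_of_specializes_span {x : X} (hx : x ∈ V) [IsDomain (X.presheaf.stalk x)]
    [UniqueFactorizationMonoid (X.presheaf.stalk x)]
    {π : X.presheaf.stalk x} (hπ : Prime π) {z : X} (hz : z ⤳ x)
    (hzπ : pr hz = Ideal.span {π}) {w : X} (hw : w ⤳ z) (hne : w ≠ z) : IsMaxPt w := by
  have hwx : w ⤳ x := hw.trans hz
  have hle : pr hwx ≤ Ideal.span {π} := hzπ ▸ (pr_le_pr hV hx hwx hz).2 hw
  have hne' : pr hwx ≠ Ideal.span {π} := fun h =>
    hne (hw.antisymm ((pr_le_pr hV hx hz hwx).1 (hzπ ▸ h.ge))).eq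
  have hbot : pr hwx = ⊥ := by
    refine eq_bot_iff.2 fun a ha => ?_
    by_contra ha0
    rw [Ideal.mem_bot] at ha0
    obtain ⟨i, b, hb, rfl⟩ := WfDvdMonoid.max_power_factor ha0 hπ.irreducible
    rcases (inferInstance : (pr hwx).IsPrime).mem_or_mem ha with h1 | h1
    · exact hne' (le_antisymm hle (Ideal.span_le.2 (Set.singleton_subset_iff.2
        ((inferInstance : (pr hwx).IsPrime).mem_of_pow_mem i h1))))
    · exact hb (Ideal.mem_span_singleton.1 (hle h1))
  have : w ⤳ genPt hV :=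
    (pr_le_pr hV hx hwx (genPt_specializes hV hx)).1 (by rw [hbot]; exact bot_le)
  exact eq_genPt hV this ▸ isMaxPt_genPt hV

theorem inLoc_iff_range {x : X} (hx : x ∈ V) {y : X} (h : y ⤳ x) {c : X.presheaf.stalk (genPt hV)} :
    letI := (isField_genPt hV).toField
    letI := (toGen hV hx).toAlgebra
    InLoc (X.presheaf.stalk x) (pr h) c ↔ c ∈ (toGen hV (h.mem_open V.2 hx)).range :=
  (mem_range_toGen_iff hV hx h c).symm

theorem inLoc_iff {x : X} (hx : x ∈ V) {y : X} (h : y ⤳ x) {c : X.presheaf.stalk (genPt hV)} :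
    letI := (isField_genPt hV).toField
    letI := (toGen hV hx).toAlgebra
    InLoc (X.presheaf.stalk x) (pr h) c ↔ ∃ a, c = toGen hV (h.mem_open V.2 hx) a :=
  (inLoc_iff_range hV hx h).trans (exists_congr fun _ => eq_comm)

variable (hres : ∀ W : X.Opens, Function.Bijective (res M (inf_le_left : W ⊓ U₁ ≤ W)))
  (hgen : ∀ y ∈ U₁, ∃ (Q : X.Opens) (t : Γ(M, Q)), y ∈ Q ∧ IsGen M Q t)
  (hufd : ∀ y : X, y ∉ U₁ → UniqueFactorizationMonoid (X.presheaf.stalk y))

include hV hres hgen hufd in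
theorem exists_isGen_lattice_aux [IsLocallyNoetherian X] (hdense : Dense (U₁ : Set X))
    {x : X} (hxV : x ∈ V) (hx : x ∉ U₁) :
    ∃ (Q : X.Opens) (t : Γ(lattice M U₁, Q)), x ∈ Q ∧ IsGen (lattice M U₁) Q t := by
  classical
  -- the generic point
  obtain ⟨v, hv, hvU⟩ := hdense.inter_open_nonempty V V.2 ⟨x, hxV⟩
  have hξU : genPt hV ∈ U₁ := genPt_mem_of_nonempty hV (inf_le_left : V ⊓ U₁ ≤ V) ⟨hv, hvU⟩ |>.2
  have hb : Function.Bijective fun a : X.presheaf.stalk (genPt hV) => a • Sub.basis M (genPt hV) := by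
    obtain ⟨Q, t, hQ, ht⟩ := hgen _ hξU
    exact basis_bijective M ⟨_, ht.stalk_bijective hQ⟩
  letI : Field (X.presheaf.stalk (genPt hV)) := (isField_genPt hV).toField
  -- the local ring at `x`
  have := hufd x hx
  haveI := isDomain_of_ufm x this
  letI : Algebra (X.presheaf.stalk x) (X.presheaf.stalk (genPt hV)) := (toGen hV hxV).toAlgebra
  haveI : IsFractionRing (X.presheaf.stalk x) (X.presheaf.stalk (genPt hV)) :=
    isFractionRing hV hxV
  -- local generators
  choose Qg tg hQg htg using hgen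
  let gpt : ∀ z : X, z ∈ V → X.presheaf.stalk (genPt hV) := fun z hz =>
    if hzU : z ∈ U₁ then coord hV hb hz (hQg z hzU) (tg z hzU) else 1
  let g : Ideal (X.presheaf.stalk x) → X.presheaf.stalk (genPt hV) := fun p =>
    if h : ∃ (z : X) (hz : z ⤳ x), pr hz = p then gpt h.choose (h.choose_spec.choose.mem_open V.2 hxV)
    else 1
  have hg_pr : ∀ {z : X} (hz : z ⤳ x), g (pr hz) = gpt z (hz.mem_open V.2 hxV) := by
    intro z hz
    have h : ∃ (z' : X) (hz' : z' ⤳ x), pr hz' = pr hz := ⟨z, hz, rfl⟩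
    have heq : h.choose = z :=
      (((pr_le_pr hV hxV h.choose_spec.choose hz).1 h.choose_spec.choose_spec.le).antisymm
        ((pr_le_pr hV hxV hz h.choose_spec.choose).1 h.choose_spec.choose_spec.ge)).eq
    simp only [g, dif_pos h]
    congr 1
  have hg0 : ∀ p, g p ≠ 0 := by
    intro p
    simp only [g]
    split_ifs with h
    · simp only [gpt]
      split_ifs with hzU
      · exact coord_ne_zero hV hb (htg _ hzU) _ _
      · exact one_ne_zero
    · exact one_ne_zero
  have hgU : ∀ {z : X} (hz : z ⤳ x) (hzU : z ∈ U₁) {Q : X.Opens} {t : Γ(M, Q)} (ht : IsGen M Q t)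
      (hzQ : z ∈ Q), Equiv' (X.presheaf.stalk x) (pr hz) (g (pr hz))
        (coord hV hb (hz.mem_open V.2 hxV) hzQ t) := by
    intro z hz hzU Q t ht hzQ
    rw [hg_pr hz]
    simp only [gpt, dif_pos hzU]
    have hzV := hz.mem_open V.2 hxV
    rw [equiv'_iff_inLoc (coord_ne_zero hV hb ht hzV hzQ) (coord_ne_zero hV hb (htg z hzU) hzV _)]
    constructor
    · obtain ⟨a, -, ha⟩ := coord_mem hV hb ht hzV hzQ (hQg z hzU) (tg z hzU)
      refine (inLoc_iff hV hxV hz).2 ⟨a, ?_⟩
      rw [ha, mul_div_assoc, div_self (coord_ne_zero hV hb ht hzV hzQ), mul_one]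
    · obtain ⟨a, -, ha⟩ := coord_mem hV hb (htg z hzU) hzV (hQg z hzU) hzQ t
      refine (inLoc_iff hV hxV hz).2 ⟨a, ?_⟩
      rw [ha, mul_div_assoc, div_self (coord_ne_zero hV hb (htg z hzU) hzV _), mul_one]
  -- the reference generator
  obtain ⟨f, hf0, hfle, hfξ⟩ : ∃ f : Γ(X, V), X.presheaf.germ V x hxV f ≠ 0 ∧
      X.basicOpen f ≤ Qg _ hξU ⊓ U₁ ∧ genPt hV ∈ X.basicOpen f := by
    obtain ⟨f, hle, hmem⟩ := hV.exists_basicOpen_le (V := Qg _ hξU ⊓ U₁)
      ⟨genPt hV, ⟨hQg _ hξU, hξU⟩⟩ (genPt_mem hV)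
    refine ⟨f, fun h0 => ?_, hle, hmem⟩
    have h1 := congrArg (toGen hV hxV) h0
    rw [toGen_germ, map_zero] at h1
    rw [Scheme.mem_basicOpen _ _ _ (genPt_mem hV), h1] at hmem
    exact not_isUnit_zero hmem
  let g₀ := coord hV hb (genPt_mem hV) (hQg _ hξU) (tg _ hξU)
  obtain ⟨c, hc0, hc⟩ := exists_realisation g hg0 g₀ (coord_ne_zero hV hb (htg _ hξU) _ _)
    (X.presheaf.germ V x hxV f) hf0 (fun π hπ hπf => by
      have := (Ideal.span_singleton_prime hπ.ne_zero).2 hπ
      obtain ⟨z, hz, hzπ⟩ := exists_pr_eq hV hxV (Ideal.span {π})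
      have hzb : z ∈ X.basicOpen f := by
        rw [Scheme.mem_basicOpen _ _ _ (hz.mem_open V.2 hxV)]
        have : X.presheaf.germ V x hxV f ∉ pr hz := by rwa [hzπ, Ideal.mem_span_singleton]
        have h2 : IsUnit (X.presheaf.stalkSpecializes hz (X.presheaf.germ V x hxV f)) :=
          notMem_maximalIdeal.1 this
        rwa [TopCat.Presheaf.germ_stalkSpecializes_apply] at h2
      have := hgU hz (hfle hzb).2 (htg _ hξU) (hfle hzb).1
      rw [hzπ] at this
      exact equiv'_symm this)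
  have hprime : ∀ {z : X} (hz : z ⤳ x) {π : X.presheaf.stalk x} (_ : Prime π), π ∈ pr hz →
      ∃ (w : X) (hw : w ⤳ x), pr hw = Ideal.span {π} ∧ w ⤳ z := by
    intro z hz π hπ hmem
    have := (Ideal.span_singleton_prime hπ.ne_zero).2 hπ
    obtain ⟨w, hw, hwπ⟩ := exists_pr_eq hV hxV (Ideal.span {π})
    exact ⟨w, hw, hwπ, (pr_le_pr hV hxV hw hz).1 (hwπ ▸ (Ideal.span_singleton_le_iff_mem _).2 hmem)⟩
  -- the good open set
  let G : X.Opens := sSup {R | ∃ t : Γ(M, R), IsGen M R t ∧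
    ∀ (z : X) (hz : z ∈ R) (hzV : z ∈ V), coord hV hb hzV hz t = c}
  have hgood : ∀ {y : X}, y ⤳ x → y ∈ U₁ → y ∈ G := by
    intro y hy hyU
    have hyV := hy.mem_open V.2 hxV
    have hgy := coord_ne_zero hV hb (htg y hyU) hyV (hQg y hyU)
    have hE : Equiv' (X.presheaf.stalk x) (pr hy) c (coord hV hb hyV (hQg y hyU) (tg y hyU)) := by
      rw [equiv'_iff_inLoc hgy hc0]
      have hall : ∀ π, Prime π → π ∈ pr hy →
          InLoc (X.presheaf.stalk x) (Ideal.span {π}) (c / coord hV hb hyV (hQg y hyU) (tg y hyU)) ∧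
          InLoc (X.presheaf.stalk x) (Ideal.span {π}) (coord hV hb hyV (hQg y hyU) (tg y hyU) / c) := by
        intro π hπ hmem
        have := (Ideal.span_singleton_prime hπ.ne_zero).2 hπ
        obtain ⟨w, hw, hwπ, hwy⟩ := hprime hy hπ hmem
        have h1 := hc π hπ
        have h2 := hgU hw (hwy.mem_open U₁.2 hyU) (htg y hyU) (hwy.mem_open (Qg y hyU).2 (hQg y hyU))
        rw [hwπ] at h2
        exact (equiv'_iff_inLoc hgy hc0).1 (equiv'_trans h1 h2)
      exact ⟨inLoc_of_forall _ _ fun π hπ hm => (hall π hπ hm).1,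
        inLoc_of_forall _ _ fun π hπ hm => (hall π hπ hm).2⟩
    obtain ⟨⟨a, ha⟩, ⟨b, hb'⟩⟩ : c / coord hV hb hyV (hQg y hyU) (tg y hyU) ∈ (toGen hV hyV).range ∧
        coord hV hb hyV (hQg y hyU) (tg y hyU) / c ∈ (toGen hV hyV).range :=
      let h := (equiv'_iff_inLoc hgy hc0).1 hE
      ⟨(inLoc_iff_range hV hxV hy).1 h.1, (inLoc_iff_range hV hxV hy).1 h.2⟩
    have hab : a * b = 1 := toGen_injective hV hyV (by
      rw [map_mul, ha, hb', map_one, div_mul_div_comm,
        mul_comm c, div_self (mul_ne_zero hgy hc0)])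
    obtain ⟨O, hO, r, hr⟩ := TopCat.Presheaf.exists_germ_eq X.presheaf a
    have hbo : y ∈ X.basicOpen r := by
      rw [Scheme.mem_basicOpen _ _ _ hO, hr]
      exact IsUnit.of_mul_eq_one b hab
    let R : X.Opens := X.basicOpen r ⊓ Qg y hyU
    have hRO : R ≤ O := inf_le_left.trans (X.basicOpen_le r)
    have hru : IsUnit (X.presheaf.map (homOfLE hRO).op r) := by
      have h1 := RingedSpace.isUnit_res_basicOpen X.toRingedSpace r
      have := h1.map (X.presheaf.map (homOfLE (inf_le_left : R ≤ X.basicOpen r)).op).hom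
      have heq : X.presheaf.map (homOfLE (inf_le_left : R ≤ X.basicOpen r)).op
          (X.presheaf.map (homOfLE (X.basicOpen_le r)).op r) = X.presheaf.map (homOfLE hRO).op r :=
        (congr($(X.presheaf.map_comp (homOfLE (X.basicOpen_le r)).op
          (homOfLE (inf_le_left : R ≤ X.basicOpen r)).op) r)).symm
      exact heq ▸ this
    have hgenR : IsGen M R (X.presheaf.map (homOfLE hRO).op r • res M inf_le_right (tg y hyU)) := by
      intro W hW
      have h1 := ((htg y hyU).restrict (inf_le_right : R ≤ Qg y hyU)) W hW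
      have hu := hru.map (X.presheaf.map (homOfLE hW).op).hom
      simp only [map_smul_res, smul_smul]
      exact h1.comp hu.unit.mulRight.bijective
    have hyR : y ∈ R := ⟨hbo, hQg y hyU⟩
    refine Opens.mem_sSup.2 ⟨R, ⟨_, hgenR, fun z hz hzV => ?_⟩, hyR⟩
    refine (coord_eq_coord hV hb hzV hyV hz hyR _).trans ((coord_smul hV hb _ hyR _ _).trans ?_)
    rw [TopCat.Presheaf.germ_res_apply]
    rw [show X.presheaf.germ O y _ r = a from hr, ha,
      coord_congr hV hb _ hyV hyV (hQg y hyU) hyR (tg y hyU), div_mul_cancel₀ _ hgy]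
  have hmemG : ∀ {y : X}, y ∈ G → y ∈ V → ∃ (R : X.Opens) (hy : y ∈ R) (t : Γ(M, R)), IsGen M R t ∧
      ∀ (z : X) (hz : z ∈ R) (hzV : z ∈ V), coord hV hb hzV hz t = c := by
    intro y hy _
    obtain ⟨R, ⟨t, ht, htc⟩, hyR⟩ := Opens.mem_sSup.1 hy
    exact ⟨R, hyR, t, ht, htc⟩
  -- finitely many divisorial points
  have : IsNoetherian (V : Scheme.{u}) :=
    have : IsLocallyNoetherian (V : Scheme.{u}) := isLocallyNoetherian_of_isOpenImmersion V.ι
    have : IsAffine (V : Scheme.{u}) := hV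
    ⟨⟩
  have hSfin : {η : ↥(V : Set X) | IsDiv U₁ η.1}.Finite := by
    have : NoetherianSpace ↥(V : Set X) := inferInstanceAs (NoetherianSpace (V : Scheme.{u}))
    have : QuasiSober ↥(V : Set X) := inferInstanceAs (QuasiSober (V : Scheme.{u}))
    refine Topo.finite_of_isMax (F := (Subtype.val ⁻¹' (U₁ : Set X))ᶜ)
      ((U₁.2.preimage continuous_subtype_val).isClosed_compl) (fun η hη => hη.1) ?_
    intro η hη w hw hwη
    by_contra hne
    have hwη' := (subtype_specializes_iff _ _).1 hwη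
    have hmax := hη.2 w.1 hwη' (fun h => hne (Subtype.ext h))
    exact hw (show w.1 ∈ U₁ from (eq_genPt_of_isMaxPt hV w.2 hmax).symm ▸ hξU)
  -- the neighbourhood
  have hx1 : x ∉ closure ((V : Set X) ∩ (U₁ : Set X) ∩ (G : Set X)ᶜ) := by
    intro hmem
    have : NoetherianSpace ↥(V : Set X) := inferInstanceAs (NoetherianSpace (V : Scheme.{u}))
    have : QuasiSober ↥(V : Set X) := inferInstanceAs (QuasiSober (V : Scheme.{u}))
    have hmem' : (⟨x, hxV⟩ : ↥(V : Set X)) ∈
        closure ((Subtype.val ⁻¹' (U₁ : Set X)) ∩ (Subtype.val ⁻¹' (G : Set X))ᶜ) := by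
      rw [closure_subtype]
      refine closure_mono ?_ hmem
      rintro a ⟨⟨haV, haU⟩, haG⟩
      exact ⟨⟨a, haV⟩, ⟨haU, haG⟩, rfl⟩
    obtain ⟨z, ⟨hzU, hzG⟩, hzx⟩ := Topo.exists_specializes_of_mem_closure
      (U₁.2.preimage continuous_subtype_val) (G.2.preimage continuous_subtype_val).isClosed_compl hmem'
    exact hzG (hgood ((subtype_specializes_iff _ _).1 hzx) hzU)
  let bad : Set X := closure ((V : Set X) ∩ (U₁ : Set X) ∩ (G : Set X)ᶜ) ∪
    ⋃ η ∈ {η : ↥(V : Set X) | IsDiv U₁ η.1} ∩ {η | ¬ η.1 ⤳ x}, closure {η.1}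
  have hbad : IsClosed bad := isClosed_closure.union
    ((hSfin.subset Set.inter_subset_left).isClosed_biUnion fun _ _ => isClosed_closure)
  let V' : X.Opens := V ⊓ ⟨badᶜ, hbad.isOpen_compl⟩
  have hxV' : x ∈ V' := by
    refine ⟨hxV, ?_⟩
    rintro (h | h)
    · exact hx1 h
    · obtain ⟨η, hη, hxη⟩ := Set.mem_iUnion₂.1 h
      exact hη.2 (specializes_iff_mem_closure.2 hxη)
  have hVG : ∀ {y : X}, y ∈ V' → y ∈ U₁ → y ∈ G := fun {y} hy hyU => by
    by_contra hG
    exact hy.2 (Or.inl (subset_closure ⟨⟨hy.1, hyU⟩, hG⟩))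
  have hVS : ∀ {η : X}, η ∈ V' → IsDiv U₁ η → η ⤳ x := fun {η} hη hd => by
    by_contra hne
    exact hη.2 (Or.inr (Set.mem_iUnion₂.2 ⟨⟨η, hη.1⟩, ⟨hd, hne⟩, subset_closure rfl⟩))
  -- at a divisorial point the coordinate is a unit
  have hdiv : ∀ {η : X} (hη : η ∈ V') (_ : IsDiv U₁ η),
      c ∈ (toGen hV hη.1).range ∧ c⁻¹ ∈ (toGen hV hη.1).range := by
    intro η hη hd
    have hηx := hVS hη hd
    obtain ⟨π, hπ, hπη⟩ : ∃ π, Prime π ∧ π ∈ pr hηx := by
      have hne : pr hηx ≠ ⊥ := fun h => by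
        have : η ⤳ genPt hV :=
          (pr_le_pr hV hxV hηx (genPt_specializes hV hxV)).1 (by rw [h]; exact bot_le)
        exact hd.1 (eq_genPt hV this ▸ hξU)
      obtain ⟨π, hπ, hπ'⟩ := Ideal.IsPrime.exists_mem_prime_of_ne_bot inferInstance hne
      exact ⟨π, hπ', hπ⟩
    obtain ⟨w, hw, hwπ, hwη⟩ := hprime hηx hπ hπη
    have hweq : w = η := by
      by_contra hne
      have := eq_genPt_of_isMaxPt hV (hw.mem_open V.2 hxV) (hd.2 w hwη hne)
      subst this
      rw [pr_genPt hV hxV] at hwπ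
      exact hπ.ne_zero (Ideal.span_singleton_eq_bot.1 hwπ.symm)
    subst hweq
    have := hc π hπ
    rw [← hwπ, hg_pr hw] at this
    simp only [gpt, dif_neg hd.1] at this
    have h := (equiv'_iff_inLoc one_ne_zero hc0).1 this
    rw [div_one, one_div] at h
    exact ⟨(inLoc_iff_range hV hxV hw).1 h.1, (inLoc_iff_range hV hxV hw).1 h.2⟩
  -- the generating section
  obtain ⟨s, hs⟩ := exists_coord_eq hV hb hres (fun y hy => ⟨_, _, hQg y hy, htg y hy⟩) hξU
    (inf_le_left : V' ≤ V) c (fun y hy hyU Q t hyQ ht => by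
      obtain ⟨R, hyR, tR, htR, htRc⟩ := hmemG (hVG hy hyU) hy.1
      obtain ⟨a, -, ha⟩ := coord_mem hV hb ht hy.1 hyQ hyR tR
      exact ⟨a, (htRc y hyR hy.1).symm.trans ha⟩)
  have hcond : Cond M U₁ s := by
    intro η hη hd z hz hzmax
    obtain rfl := eq_genPt_of_isMaxPt hV (hz.mem_open V.2 hη.1) hzmax
    obtain ⟨a, ha⟩ := (hdiv hη hd).1
    refine ⟨a, ?_⟩
    show toGen hV hη.1 a • _ = _
    rw [ha, ← hs η hη]
    exact coef_spec hV hb _
  obtain ⟨t, ht⟩ := (mem_range_ι_app_iff M U₁ V' s).2 hcond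
  refine ⟨V', t, hxV', fun W hW => ?_⟩
  have hWV : W ≤ V := hW.trans inf_le_left
  have happ : ∀ a : Γ(X, W), (ι M U₁).app W (a • res (lattice M U₁) hW t) = a • res M hW s := fun a => by
    rw [Scheme.Modules.Hom.app_smul, ← ht]; rfl
  have hcoord : ∀ (a : Γ(X, W)) (y : X) (hy : y ∈ W), coord hV hb (hWV hy) hy (a • res M hW s) =
      toGen hV (hWV hy) (X.presheaf.germ W y hy a) * c := fun a y hy => by
    rw [coord_smul, coord_congr hV hb hW (hWV hy) (hWV hy) (hW hy) hy s, hs y (hW hy)]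
  constructor
  · intro a b hab
    have hab' : a • res M hW s = b • res M hW s :=
      (happ a).symm.trans ((congrArg _ hab).trans (happ b))
    refine TopCat.Presheaf.section_ext X.sheaf W a b fun y hy => toGen_injective hV (hWV hy) ?_
    have := congrArg (coord hV hb (hWV hy) hy) hab'
    rw [hcoord, hcoord] at this
    exact mul_right_cancel₀ hc0 this
  · intro m
    have hm : Cond M U₁ ((ι M U₁).app W m) := (mem_range_ι_app_iff M U₁ W _).1 ⟨m, rfl⟩
    have hloc : ∀ (y : X) (hy : y ∈ W), ∃ v : X.presheaf.stalk y,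
        coord hV hb (hWV hy) hy ((ι M U₁).app W m) = toGen hV (hWV hy) v * c := by
      intro y hy
      by_cases hyU : y ∈ U₁
      · obtain ⟨R, hyR, tR, htR, htRc⟩ := hmemG (hVG (hW hy) hyU) (hWV hy)
        obtain ⟨a, -, ha⟩ := coord_mem hV hb htR (hWV hy) hyR hy ((ι M U₁).app W m)
        exact ⟨a, by rw [ha, htRc y hyR (hWV hy)]⟩
      · have := hufd y hyU
        have := isDomain_of_ufm y this
        let : Algebra (X.presheaf.stalk y) (X.presheaf.stalk (genPt hV)) := (toGen hV (hWV hy)).toAlgebra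
        have : IsFractionRing (X.presheaf.stalk y) (X.presheaf.stalk (genPt hV)) :=
          isFractionRing hV (hWV hy)
        have hin : InLoc (X.presheaf.stalk y) (pr (specializes_refl y))
            (coord hV hb (hWV hy) hy ((ι M U₁).app W m) / c) := by
          refine inLoc_of_forall _ _ fun π hπ _ => ?_
          have := (Ideal.span_singleton_prime hπ.ne_zero).2 hπ
          obtain ⟨z, hz, hzπ⟩ := exists_pr_eq hV (hWV hy) (Ideal.span {π})
          have hzW : z ∈ W := hz.mem_open W.2 hy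
          rw [← hzπ, inLoc_iff_range hV (hWV hy) hz]
          by_cases hzU : z ∈ U₁
          · obtain ⟨R, hzR, tR, htR, htRc⟩ := hmemG (hVG (hW hzW) hzU) (hWV hzW)
            obtain ⟨a, -, ha⟩ := coord_mem hV hb htR (hWV hzW) hzR hzW ((ι M U₁).app W m)
            refine ⟨a, ?_⟩
            rw [coord_eq_coord hV hb (hWV hy) (hWV hzW) hy hzW, ha, htRc z hzR (hWV hzW),
              mul_div_assoc, div_self hc0, mul_one]
          · have hd : IsDiv U₁ z := ⟨hzU, fun w hw hne =>
              isMaxPt_of_specializes_span hV (hWV hy) hπ hz hzπ hw hne⟩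
            obtain ⟨a, ha⟩ := hm z hzW hd (genPt hV) (genPt_specializes hV (hWV hzW)) (isMaxPt_genPt hV)
            obtain ⟨b, hb'⟩ := (hdiv (hW hzW) hd).2
            refine ⟨a * b, ?_⟩
            rw [map_mul, hb', div_eq_mul_inv]
            congr 1
            exact ((coord_eq_coord hV hb (hWV hy) (hWV hzW) hy hzW _).trans (coef_eq hV hb ha)).symm
        obtain ⟨v, hv⟩ := (inLoc_iff_range hV (hWV hy) (specializes_refl y)).1 hin
        exact ⟨v, by rw [hv, div_mul_cancel₀ _ hc0]⟩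
    choose v hv using hloc
    choose O hO r hr using fun y : ↥W => TopCat.Presheaf.exists_germ_eq X.presheaf (v y.1 y.2)
    have hr' : ∀ (y : ↥W) (z : X) (hz : z ∈ O y ⊓ W),
        toGen hV (hWV hz.2) (X.presheaf.germ (O y) z hz.1 (r y)) * c =
          coord hV hb (hWV hz.2) hz.2 ((ι M U₁).app W m) := by
      intro y z hz
      rw [coord_eq_coord hV hb (hWV hz.2) (hWV y.2) hz.2 y.2, hv y.1 y.2, ← hr y, toGen_germ,
        toGen_germ]
    obtain ⟨a, ha, -⟩ := X.sheaf.existsUnique_gluing' (fun y : ↥W => O y ⊓ W) W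
      (fun y => homOfLE inf_le_right) (fun y hy => Opens.mem_iSup.2 ⟨⟨y, hy⟩, hO _, hy⟩)
      (fun y => X.presheaf.map (homOfLE inf_le_left).op (r y)) (fun i j => by
        refine TopCat.Presheaf.section_ext X.sheaf _ _ _ fun z hz => toGen_injective hV (hWV hz.1.2) ?_
        change toGen hV _ (X.presheaf.germ _ z hz _) = toGen hV _ (X.presheaf.germ _ z hz _)
        refine (congrArg (toGen hV _) ((TopCat.Presheaf.germ_res_apply X.presheaf _ z hz _).trans
          (TopCat.Presheaf.germ_res_apply X.presheaf _ z _ _))).trans (Eq.trans ?_ (congrArg (toGen hV _)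
          ((TopCat.Presheaf.germ_res_apply X.presheaf _ z hz _).trans
          (TopCat.Presheaf.germ_res_apply X.presheaf _ z _ _))).symm)
        exact mul_right_cancel₀ hc0 ((hr' i z hz.1).trans (hr' j z hz.2).symm))
    refine ⟨a, ι_app_injective M U₁ W ((happ a).trans ?_)⟩
    refine eq_of_coord_eq hV hb hres (fun y hy => ⟨_, _, hQg y hy, htg y hy⟩) hWV _ _ fun y hy => ?_
    refine (hcoord a y hy).trans ?_
    rw [hv y hy, ← hr ⟨y, hy⟩]
    congr 2
    have := congrArg (X.presheaf.germ _ y (⟨hO ⟨y, hy⟩, hy⟩ : y ∈ O ⟨y, hy⟩ ⊓ W)) (ha ⟨y, hy⟩)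
    exact ((TopCat.Presheaf.germ_res_apply X.presheaf _ y _ a).symm.trans this).trans
      (TopCat.Presheaf.germ_res_apply X.presheaf _ y _ _)

end Groth.Agent.H34.UFDExt.Main
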