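import Groth.Agent.H34.UFDExt.Algebra
import Mathlib.AlgebraicGeometry.AffineScheme
import Mathlib.AlgebraicGeometry.Stalk
import Mathlib.AlgebraicGeometry.Properties

/-!
Points of an affine open with domain of sections, and primes of its local rings.
-/

universe u

open CategoryTheory AlgebraicGeometry TopologicalSpace

namespace Groth.Agent.H34.UFDExt.Points

open IsLocalRing

variable {X : Scheme.{u}} {V : X.Opens} (hV : IsAffineOpen V) [IsDomain Γ(X, V)]

/-- The generic point of an affine open with a domain of sections. -/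
noncomputable def genPt : X := hV.fromSpec ⟨⊥, Ideal.isPrime_bot⟩

omit [IsDomain Γ(X, V)] in
theorem fromSpec_mem (q : PrimeSpectrum Γ(X, V)) : hV.fromSpec q ∈ V := by
  have : hV.fromSpec q ∈ (Set.range hV.fromSpec : Set X) := ⟨q, rfl⟩
  rwa [hV.range_fromSpec] at this

theorem genPt_mem : genPt hV ∈ V := fromSpec_mem hV _

omit [IsDomain Γ(X, V)] in
theorem primeIdealOf_fromSpec (q : PrimeSpectrum Γ(X, V)) (hq : hV.fromSpec q ∈ V) :
    hV.primeIdealOf ⟨hV.fromSpec q, hq⟩ = q :=
  hV.fromSpec.isOpenEmbedding.injective (hV.fromSpec_primeIdealOf ⟨_, hq⟩)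

omit [IsDomain Γ(X, V)] in
theorem specializes_iff {y z : X} (hy : y ∈ V) (hz : z ∈ V) :
    y ⤳ z ↔ (hV.primeIdealOf ⟨y, hy⟩).asIdeal ≤ (hV.primeIdealOf ⟨z, hz⟩).asIdeal := by
  have : hV.fromSpec (hV.primeIdealOf ⟨y, hy⟩) ⤳ hV.fromSpec (hV.primeIdealOf ⟨z, hz⟩) ↔
      (hV.primeIdealOf ⟨y, hy⟩).asIdeal ≤ (hV.primeIdealOf ⟨z, hz⟩).asIdeal := by
    exact (hV.fromSpec.isOpenEmbedding.isInducing.specializes_iff).trans
      (PrimeSpectrum.le_iff_specializes _ _).symm
  simpa only [hV.fromSpec_primeIdealOf] using this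

theorem genPt_specializes {y : X} (hy : y ∈ V) : genPt hV ⤳ y := by
  rw [specializes_iff hV (genPt_mem hV) hy]
  simp only [genPt, primeIdealOf_fromSpec hV]
  exact bot_le

theorem eq_genPt {z : X} (h : z ⤳ genPt hV) : z = genPt hV :=
  (h.antisymm (genPt_specializes hV (h.mem_open V.2 (genPt_mem hV)))).eq

theorem genPt_mem_of_nonempty {W : X.Opens} (hW : W ≤ V) {y : X} (hy : y ∈ W) : genPt hV ∈ W :=
  (genPt_specializes hV (hW hy)).mem_open W.2 hy

/-- The field of rational functions: the local ring at the generic point. -/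
theorem isField_genPt : IsField (X.presheaf.stalk (genPt hV)) := by
  let := TopCat.Presheaf.algebra_section_stalk X.presheaf (⟨genPt hV, genPt_mem hV⟩ : V)
  have := hV.isLocalization_stalk' ⟨⊥, Ideal.isPrime_bot⟩ (genPt_mem hV)
  have : IsFractionRing Γ(X, V) (X.presheaf.stalk (genPt hV)) := by
    have h : (⊥ : Ideal Γ(X, V)).primeCompl = nonZeroDivisors Γ(X, V) := by
      ext a; simp [Ideal.primeCompl]
    have h' : IsLocalization (⊥ : Ideal Γ(X, V)).primeCompl (X.presheaf.stalk (genPt hV)) := this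
    rw [h] at h'
    exact h'
  let := IsFractionRing.toField Γ(X, V) (K := X.presheaf.stalk (genPt hV))
  exact Semifield.toIsField _

/-- The map from a local ring to the field of rational functions. -/
noncomputable def toGen {y : X} (hy : y ∈ V) :
    X.presheaf.stalk y →+* X.presheaf.stalk (genPt hV) :=
  (X.presheaf.stalkSpecializes (genPt_specializes hV hy)).hom

theorem toGen_germ {W : X.Opens} {y : X} (hy : y ∈ V) (hyW : y ∈ W) (a : Γ(X, W)) :
    toGen hV hy (X.presheaf.germ W y hyW a) =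
      X.presheaf.germ W (genPt hV) ((genPt_specializes hV hy).mem_open W.2 hyW) a :=
  TopCat.Presheaf.germ_stalkSpecializes_apply X.presheaf hyW (genPt_specializes hV hy) a

theorem toGen_stalkSpecializes {y z : X} (hy : y ∈ V) (hz : z ∈ V) (h : y ⤳ z)
    (v : X.presheaf.stalk z) :
    toGen hV hy (X.presheaf.stalkSpecializes h v) = toGen hV hz v :=
  congr($(TopCat.Presheaf.stalkSpecializes_comp X.presheaf (genPt_specializes hV hy) h) v)

theorem germ_genPt_injective :
    Function.Injective (X.presheaf.germ V (genPt hV) (genPt_mem hV)) := by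
  let := TopCat.Presheaf.algebra_section_stalk X.presheaf (⟨genPt hV, genPt_mem hV⟩ : V)
  have hl : IsLocalization (⊥ : Ideal Γ(X, V)).primeCompl (X.presheaf.stalk (genPt hV)) :=
    hV.isLocalization_stalk' ⟨⊥, Ideal.isPrime_bot⟩ (genPt_mem hV)
  intro a b hab
  refine IsLocalization.injective (M := (⊥ : Ideal Γ(X, V)).primeCompl)
    (S := X.presheaf.stalk (genPt hV)) ?_ hab
  intro s hs
  exact mem_nonZeroDivisors_of_ne_zero fun h0 => hs h0

theorem toGen_injective {y : X} (hy : y ∈ V) : Function.Injective (toGen hV hy) := by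
  let := TopCat.Presheaf.algebra_section_stalk X.presheaf (⟨y, hy⟩ : V)
  have : IsLocalization.AtPrime (X.presheaf.stalk y) (hV.primeIdealOf ⟨y, hy⟩).asIdeal :=
    hV.isLocalization_stalk ⟨y, hy⟩
  rw [injective_iff_map_eq_zero]
  intro v hv
  obtain ⟨⟨a, s⟩, hs⟩ := IsLocalization.surj (hV.primeIdealOf ⟨y, hy⟩).asIdeal.primeCompl v
  have ha := congrArg (toGen hV hy) hs
  rw [map_mul, hv, zero_mul] at ha
  change 0 = toGen hV hy (X.presheaf.germ V y hy a) at ha
  rw [toGen_germ] at ha
  have ha0 : a = 0 := germ_genPt_injective hV (ha.symm.trans (map_zero _).symm)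
  dsimp only at hs
  rw [ha0, map_zero] at hs
  exact (IsUnit.mul_left_eq_zero (IsLocalization.map_units _ s)).1 hs

variable {x : X} (hx : x ∈ V)

/-- The prime of the local ring at `x` corresponding to a generalisation `y`. -/
noncomputable def pr {y : X} (h : y ⤳ x) : Ideal (X.presheaf.stalk x) :=
  (maximalIdeal (X.presheaf.stalk y)).comap (X.presheaf.stalkSpecializes h).hom

instance pr_isPrime {y : X} (h : y ⤳ x) : (pr (X := X) h).IsPrime := Ideal.IsPrime.comap _

include hV in
omit [IsDomain Γ(X, V)] in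
theorem comap_pr {y : X} (h : y ⤳ x) :
    (pr h).comap (X.presheaf.germ V x hx).hom =
      (hV.primeIdealOf ⟨y, h.mem_open V.2 hx⟩).asIdeal := by
  let := TopCat.Presheaf.algebra_section_stalk X.presheaf (⟨y, h.mem_open V.2 hx⟩ : V)
  have : IsLocalization.AtPrime (X.presheaf.stalk y) (hV.primeIdealOf ⟨y, h.mem_open V.2 hx⟩).asIdeal :=
    hV.isLocalization_stalk ⟨y, h.mem_open V.2 hx⟩
  rw [pr, Ideal.comap_comap, ← IsLocalization.AtPrime.under_maximalIdeal (X.presheaf.stalk y)
    (hV.primeIdealOf ⟨y, h.mem_open V.2 hx⟩).asIdeal]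
  congr 1
  exact congrArg CommRingCat.Hom.hom (TopCat.Presheaf.germ_stalkSpecializes X.presheaf hx h)

include hV hx in
omit [IsDomain Γ(X, V)] in
theorem pr_le_pr {y z : X} (hy : y ⤳ x) (hz : z ⤳ x) : pr hy ≤ pr hz ↔ y ⤳ z := by
  let := TopCat.Presheaf.algebra_section_stalk X.presheaf (⟨x, hx⟩ : V)
  have : IsLocalization.AtPrime (X.presheaf.stalk x) (hV.primeIdealOf ⟨x, hx⟩).asIdeal :=
    hV.isLocalization_stalk ⟨x, hx⟩
  rw [specializes_iff hV (hy.mem_open V.2 hx) (hz.mem_open V.2 hx), ← comap_pr hV hx hy,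
    ← comap_pr hV hx hz]
  refine ⟨fun h => Ideal.comap_mono h, fun h => ?_⟩
  rw [← IsLocalization.map_under (hV.primeIdealOf ⟨x, hx⟩).asIdeal.primeCompl _ (pr hy),
    ← IsLocalization.map_under (hV.primeIdealOf ⟨x, hx⟩).asIdeal.primeCompl _ (pr hz)]
  exact Ideal.map_mono h

include hV hx in
omit [IsDomain Γ(X, V)] in
theorem exists_pr_eq (p : Ideal (X.presheaf.stalk x)) [p.IsPrime] :
    ∃ (y : X) (h : y ⤳ x), pr h = p := by
  let := TopCat.Presheaf.algebra_section_stalk X.presheaf (⟨x, hx⟩ : V)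
  have : IsLocalization.AtPrime (X.presheaf.stalk x) (hV.primeIdealOf ⟨x, hx⟩).asIdeal :=
    hV.isLocalization_stalk ⟨x, hx⟩
  let q : PrimeSpectrum Γ(X, V) := ⟨p.comap (X.presheaf.germ V x hx).hom, Ideal.IsPrime.comap _⟩
  have hq : q.asIdeal ≤ (hV.primeIdealOf ⟨x, hx⟩).asIdeal := by
    rw [← IsLocalization.AtPrime.under_maximalIdeal (X.presheaf.stalk x)
      (hV.primeIdealOf ⟨x, hx⟩).asIdeal]
    exact Ideal.comap_mono (le_maximalIdeal (Ideal.IsPrime.ne_top ‹_›))
  have hspec : hV.fromSpec q ⤳ x := by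
    rw [specializes_iff hV (fromSpec_mem hV q) hx, primeIdealOf_fromSpec hV]
    exact hq
  refine ⟨_, hspec, ?_⟩
  rw [← IsLocalization.map_under (hV.primeIdealOf ⟨x, hx⟩).asIdeal.primeCompl _ (pr hspec),
    ← IsLocalization.map_under (hV.primeIdealOf ⟨x, hx⟩).asIdeal.primeCompl _ p]
  congr 1
  exact (comap_pr hV hx hspec).trans (congrArg _ (primeIdealOf_fromSpec hV q _))

theorem pr_genPt : pr (genPt_specializes hV hx) = ⊥ := by
  ext a
  have hf := isField_genPt hV
  rw [pr, Ideal.mem_comap, (IsLocalRing.isField_iff_maximalIdeal_eq).1 hf, Ideal.mem_bot,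
    Ideal.mem_bot]
  exact ⟨fun h => toGen_injective hV hx (h.trans (map_zero _).symm), fun h => by rw [h, map_zero]⟩

/-- The local ring at a generalisation consists of the fractions with denominator outside its
prime. -/
theorem mem_range_toGen_iff {y : X} (h : y ⤳ x) (c : X.presheaf.stalk (genPt hV)) :
    c ∈ (toGen hV (h.mem_open V.2 hx)).range ↔
      ∃ a s : X.presheaf.stalk x, s ∉ pr h ∧ c * toGen hV hx s = toGen hV hx a := by
  let := TopCat.Presheaf.algebra_section_stalk X.presheaf (⟨y, h.mem_open V.2 hx⟩ : V)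
  have : IsLocalization.AtPrime (X.presheaf.stalk y) (hV.primeIdealOf ⟨y, h.mem_open V.2 hx⟩).asIdeal :=
    hV.isLocalization_stalk ⟨y, h.mem_open V.2 hx⟩
  constructor
  · rintro ⟨v, rfl⟩
    obtain ⟨⟨a, s⟩, hs⟩ :=
      IsLocalization.surj (hV.primeIdealOf ⟨y, h.mem_open V.2 hx⟩).asIdeal.primeCompl v
    refine ⟨X.presheaf.germ V x hx a, X.presheaf.germ V x hx s, fun hm => s.2 ?_, ?_⟩
    · show (s : Γ(X, V)) ∈ (hV.primeIdealOf ⟨y, h.mem_open V.2 hx⟩).asIdeal
      exact (comap_pr hV hx h).le hm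
    · have := congrArg (toGen hV (h.mem_open V.2 hx)) hs
      rw [map_mul] at this
      change _ * toGen hV _ (X.presheaf.germ V y _ s.1) = toGen hV _ (X.presheaf.germ V y _ a) at this
      rw [toGen_germ, toGen_germ] at this
      rw [toGen_germ, toGen_germ]
      exact this
  · rintro ⟨a, s, hs, hc⟩
    have hu : IsUnit (X.presheaf.stalkSpecializes h s) := notMem_maximalIdeal.1 hs
    refine ⟨hu.unit⁻¹ * X.presheaf.stalkSpecializes h a, ?_⟩
    have : IsUnit (toGen hV hx s) := toGen_stalkSpecializes hV (h.mem_open V.2 hx) hx h s ▸ hu.map _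
    apply this.mul_left_injective
    show _ * toGen hV hx s = c * toGen hV hx s
    rw [hc, ← toGen_stalkSpecializes hV (h.mem_open V.2 hx) hx h s,
      ← toGen_stalkSpecializes hV (h.mem_open V.2 hx) hx h a, ← map_mul]
    congr 1
    rw [mul_comm, ← mul_assoc, IsUnit.mul_val_inv, one_mul]

end Groth.Agent.H34.UFDExt.Points

namespace Groth.Agent.H34.UFDExt.Points

open IsLocalRing

variable {X : Scheme.{u}} {V : X.Opens} (hV : IsAffineOpen V) [IsDomain Γ(X, V)] {x : X} (hx : x ∈ V)

/-- The field of rational functions is the fraction field of each local ring. -/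
theorem isFractionRing :
    letI := (toGen hV hx).toAlgebra
    IsFractionRing (X.presheaf.stalk x) (X.presheaf.stalk (genPt hV)) := by
  let := (toGen hV hx).toAlgebra
  have hf := isField_genPt hV
  have := hf.nontrivial
  have hu : ∀ a : X.presheaf.stalk x, a ∈ nonZeroDivisors (X.presheaf.stalk x) →
      IsUnit (toGen hV hx a) := by
    intro a ha
    have : Nontrivial (X.presheaf.stalk x) := inferInstance
    have h0 : toGen hV hx a ≠ 0 := fun h =>
      nonZeroDivisors.ne_zero ha (toGen_injective hV hx (h.trans (map_zero _).symm))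
    obtain ⟨b, hb⟩ := hf.mul_inv_cancel h0
    exact IsUnit.of_mul_eq_one b hb
  refine ⟨fun a => hu a.1 a.2, fun c => ?_, fun {a b} hab => ?_⟩
  · obtain ⟨a, s, hs, hcs⟩ := (mem_range_toGen_iff hV hx (genPt_specializes hV hx) c).1
      ⟨c, by
        show X.presheaf.stalkSpecializes _ c = c
        rw [TopCat.Presheaf.stalkSpecializes_refl]; rfl⟩
    rw [pr_genPt hV hx, Ideal.mem_bot] at hs
    refine ⟨⟨a, ⟨s, mem_nonZeroDivisors_iff_right.2 fun b hb => ?_⟩⟩, hcs⟩
    apply toGen_injective hV hx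
    have := congrArg (toGen hV hx) hb
    rw [map_mul, map_zero] at this
    rw [map_zero]
    obtain ⟨t, ht⟩ := hf.mul_inv_cancel (a := toGen hV hx s) fun h =>
      hs (toGen_injective hV hx (h.trans (map_zero _).symm))
    have h2 := congrArg (· * t) this
    simpa [mul_assoc, ht] using h2
  · exact ⟨1, by rw [toGen_injective hV hx hab]⟩

end Groth.Agent.H34.UFDExt.Points
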